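import Mathlib
import Cfsg.Agent.Lib.Suz.KCyclic
import Cfsg.Agent.Lib.Suz.FieldAut

/-! The automorphism group of a rank one group of type `SL₂(2ⁿ)` has order at most `n` times the
order of the group. -/

set_option autoImplicit false

namespace CfsgLib.CG

open Subgroup Cfsg CfsgLib.Suz

variable {G : Type*} [Group G] [Finite G] {H Q : Subgroup G} {t : G}

theorem comm_of_sq {Q : Subgroup G} (hQ : ∀ x ∈ Q, x * x = 1) {x y : G} (hx : x ∈ Q) (hy : y ∈ Q) :
    x * y = y * x := by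
  calc x * y = (x * y)⁻¹ := (inv_eq_of_mul_eq_one_right (hQ _ (Q.mul_mem hx hy))).symm
    _ = y * x := by
      rw [mul_inv_rev, inv_eq_of_mul_eq_one_right (hQ x hx), inv_eq_of_mul_eq_one_right (hQ y hy)]

theorem aut_mem_Q (R : RO H Q t) (hQ : ∀ x ∈ Q, x * x = 1) (β : MulAut G) {u : G} (hu : u ∈ Q)
    (hu1 : u ≠ 1) (hβ : β u ∈ Q) {x : G} (hx : x ∈ Q) : β x ∈ Q := by
  refine R.mem_Q_of_invol (R.mem_H_of_comm hβ (by simpa using hu1) ?_) ?_
  · rw [← map_mul, comm_of_sq hQ hu hx, map_mul]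
  · rw [← map_mul, hQ x hx, map_one]

theorem exists_conj_fix (R : RO H Q t) (h2 : Rank2 Q) (hQ : ∀ x ∈ Q, x * x = 1) {s r : G}
    (hs : Dist Q t s r) (α : MulAut G) :
    ∃ g : G, (MulAut.conj g * α) s = s ∧ (MulAut.conj g * α) t = t := by
  obtain ⟨g, u, hu, -, -, e1, e2⟩ := R.strongly_real_conj h2 (u := α s) (v := α t)
    (by rw [← map_mul, hs.ss, map_one]) (by rw [← map_mul, R.tt, map_one]) (fun e => by
      rw [← map_mul, ← map_mul] at e
      exact R.t_notMem (R.mem_H_of_comm hs.s_mem hs.s_ne (α.injective e)))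
  have h1 : (MulAut.conj g⁻¹ * α) s = u := by simpa using e1
  have h3 : (MulAut.conj g⁻¹ * α) t = t := by simpa using e2
  refine ⟨g⁻¹, ?_, h3⟩
  set β := MulAut.conj g⁻¹ * α
  have hd : Dist Q t (β s) (β r) :=
    ⟨h1 ▸ hu, by simpa using hs.s_ne, by rw [← map_mul, hs.ss, map_one],
      aut_mem_Q R hQ β hs.s_mem hs.s_ne (h1 ▸ hu) hs.r_mem, by
        have := congrArg β hs.eq
        simpa only [map_mul, map_inv, h3] using this⟩
  exact (R.dist_unique hd hs).1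

theorem card_mulAut_le (R : RO H Q t) (h2 : Rank2 Q) (hQ : ∀ x ∈ Q, x * x = 1)
    (hK : ∀ d ∈ Dg H t, t * d * t = d⁻¹) {n : ℕ} (hn : Nat.card Q = 2 ^ n) :
    Nat.card (MulAut G) ≤ Nat.card G * n := by
  obtain ⟨s, r, hs⟩ := R.exists_dist
  obtain ⟨F, _, _, _, e, χ, h1, h3, h4, h5, -, h7, -⟩ := R.field_model h2 hs
  have hQ0 : Q0g Q = Q := le_antisymm Q0g_le fun x hx => mem_Q0g_of hx (hQ x hx)
  rw [hQ0] at h1 h3 h7
  have hF : Nat.card F = 2 ^ n := by
    rw [← hn, ← Nat.card_congr (Equiv.Set.univ F), ← Nat.card_congr h1.equiv]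
    rfl
  have he1 : e 1 = 0 := by simpa using h3 1 Q.one_mem 1 Q.one_mem
  have hinv : ∀ x : F, ∃ u ∈ Q, e u = x := fun x => h1.surjOn (Set.mem_univ x)
  choose ι hιQ hι using hinv
  have hιe : ∀ u ∈ Q, ι (e u) = u := fun u hu => h1.injOn (hιQ _) hu (hι _)
  have key : ∀ β : MulAut G, β s = s → β t = t → ∃ σ : F ≃+* F, (∀ u ∈ Q, σ (e u) = e (β u)) ∧
      ∀ k ∈ Kset H t, β k ∈ Kset H t ∧ σ (χ k) = χ (β k) := by
    intro β hβs hβt
    have hβQ : ∀ x ∈ Q, β x ∈ Q := fun x hx =>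
      aut_mem_Q R hQ β hs.s_mem hs.s_ne (hβs.symm ▸ hs.s_mem) hx
    have hβH : ∀ h ∈ H, β h ∈ H := fun h hh => by
      refine R.mem_H_of_conj' hs.s_mem hs.s_ne (R.le ?_)
      have := hβQ _ (R.norm' hh hs.s_mem)
      rwa [map_mul, map_mul, map_inv, hβs] at this
    have hβK : ∀ k ∈ Kset H t, β k ∈ Kset H t := fun k hk => by
      have e1 : t * β k * t = (β k)⁻¹ := by
        have := congrArg β hk.2
        simpa only [map_mul, map_inv, hβt] using this
      have e2 := hβH k (Dg_le hk.1)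
      exact ⟨R.mem_D.2 ⟨e2, e1 ▸ H.inv_mem e2⟩, e1⟩
    have hf : ∀ u ∈ Q, e (β (ι (e u))) = e (β u) := fun u hu => by rw [hιe u hu]
    have hχ : ∀ k ∈ Kset H t, ∀ u ∈ Q, e (β (ι (χ k * e u))) = χ (β k) * e (β u) :=
      fun k hk u hu => by
        rw [← h7 k hk u hu, hιe _ (R.norm k (Dg_le hk.1) u hu), map_mul, map_mul, map_inv,
          h7 _ (hβK k hk) _ (hβQ u hu)]
    have hχ' : ∀ k ∈ Kset H t, e (β (ι (χ k))) = χ (β k) := fun k hk => by
      simpa [h4, hβs] using hχ k hk s hs.s_mem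
    have h0 : e (β (ι 0)) = 0 := by rw [← he1, hf 1 Q.one_mem, map_one]
    let f : F →+* F :=
      { toFun := fun x => e (β (ι x))
        map_one' := by rw [← h4, hf s hs.s_mem, hβs]
        map_zero' := h0
        map_add' := fun x y => by
          rw [← h3 _ (hβQ _ (hιQ x)) _ (hβQ _ (hιQ y)), ← map_mul,
            ← hf _ (Q.mul_mem (hιQ x) (hιQ y)), h3 _ (hιQ x) _ (hιQ y), hι, hι]
        map_mul' := fun x y => by
          by_cases hx : x = 0
          · rw [hx, zero_mul, h0, zero_mul]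
          obtain ⟨k, hk, rfl⟩ := h5.surjOn hx
          rw [hχ' k hk, ← hχ k hk _ (hιQ y), hι] }
    exact ⟨RingEquiv.ofBijective f (Finite.injective_iff_bijective.1 f.injective), hf,
      fun k hk => ⟨hβK k hk, hχ' k hk⟩⟩
  choose g hg using exists_conj_fix R h2 hQ hs
  choose σ hσ hσ' using fun α => key _ (hg α).1 (hg α).2
  have : Finite (F ≃+* F) := Finite.of_injective _ DFunLike.coe_injective
  rw [← card_ringAut (p := 2) hF, ← Nat.card_prod]
  refine Nat.card_le_card_of_injective (fun α => (g α, σ α)) fun α α' h => ?_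
  obtain ⟨e1, e2⟩ := Prod.mk.inj h
  refine mul_left_cancel (a := MulAut.conj (g α)) ?_
  have hQ' : ∀ β : MulAut G, β s = s → ∀ x ∈ Q, β x ∈ Q := fun β hβ x hx =>
    aut_mem_Q R hQ β hs.s_mem hs.s_ne (hβ.symm ▸ hs.s_mem) hx
  have a1 := hσ α
  have a2 := hσ' α
  have a3 := hg α
  have b1 := hσ α'
  have b2 := hσ' α'
  have b3 := hg α'
  rw [← e1, ← e2] at b1 b2
  rw [← e1] at b3
  generalize MulAut.conj (g α) * α = β at a1 a2 a3
  generalize MulAut.conj (g α) * α' = β' at b1 b2 b3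
  have c1 : ∀ x ∈ Q, β x = β' x := fun x hx =>
    h1.injOn (hQ' β a3.1 x hx) (hQ' β' b3.1 x hx) ((a1 x hx).symm.trans (b1 x hx))
  have c2 : ∀ d ∈ Dg H t, β d = β' d := fun d hd =>
    h5.injOn (a2 d ⟨hd, hK d hd⟩).1 (b2 d ⟨hd, hK d hd⟩).1
      ((a2 d ⟨hd, hK d hd⟩).2.symm.trans (b2 d ⟨hd, hK d hd⟩).2)
  ext x
  by_cases hx : x ∈ H
  · obtain ⟨y, hy, d, hd, rfl⟩ := R.dec x hx
    rw [map_mul, map_mul, c1 y hy, c2 d hd]
  · obtain ⟨y, hy, d, hd, z, hz, rfl⟩ := R.canon3 hx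
    simp only [map_mul]
    rw [c1 y hy, c2 d hd, c1 z hz, a3.2, b3.2]

end CfsgLib.CG
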