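import Mathlib
import Cfsg.Agent.Lib.FrobSL25
import Cfsg.Agent.Lib.H5PByCyc
import Cfsg.Agent.Lib.SL2Card

/-! Uniqueness of a double cover with a unique involution of a group whose `2`-elements are
involutions; recognition of `SL₂(3)` and `SL₂(5)`. -/

set_option autoImplicit false

namespace CfsgLib.CG

open Subgroup
open scoped MatrixGroups

/-- a central involution of a group whose `2`-elements square to `1` is detected by a sign -/
theorem exists_char {E : Type*} [Group E] [Finite E] (h : ∀ (x : E) (k : ℕ), x ^ 2 ^ k = 1 → x * x = 1)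
    {c : E} (hc : ∀ g, g * c = c * g) (hc1 : c ≠ 1) (hcc : c * c = 1) :
    ∃ χ : E →* ℂˣ, χ c = -1 ∧ ∀ x, χ x = 1 ∨ χ x = -1 := by
  obtain ⟨T⟩ : Nonempty (Sylow 2 E) := inferInstance
  have hN : (zpowers c).Normal := ⟨fun n hn g => by
    obtain ⟨k, rfl⟩ := hn
    have : g * c ^ k = c ^ k * g := ((show Commute g c from hc g).zpow_right k).eq
    simp only
    rw [this, mul_inv_cancel_right]
    exact zpow_mem (mem_zpowers c) k⟩
  have ho : orderOf c = 2 := orderOf_eq_prime (by rw [pow_two, hcc]) hc1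
  have hcT : c ∈ (T : Subgroup E) :=
    (IsPGroup.of_card (n := 1) (by rw [Nat.card_zpowers, ho, pow_one])).le_sylow_of_normal T (mem_zpowers c)
  have hsq : ∀ x : (T : Subgroup E), x * x = 1 := fun x => by
    obtain ⟨k, hk⟩ := T.2 x
    exact Subtype.ext (h x k (congrArg Subtype.val hk))
  have hcomm : ∀ x y : (T : Subgroup E), x * y = y * x := fun x y => by
    have h1 := hsq (x * y)
    calc x * y = (x * y)⁻¹ := (inv_eq_of_mul_eq_one_right h1).symm
      _ = y * x := by
        rw [mul_inv_rev, inv_eq_of_mul_eq_one_right (hsq x), inv_eq_of_mul_eq_one_right (hsq y)]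
  let _ : CommGroup (T : Subgroup E) := { mul_comm := hcomm }
  have : NeZero ((Monoid.exponent (T : Subgroup E) : ℕ) : ℂ) :=
    ⟨Nat.cast_ne_zero.2 Monoid.exponent_ne_zero_of_finite⟩
  obtain ⟨φ, hφ⟩ := CommGroup.exists_apply_ne_one_of_hasEnoughRootsOfUnity (T : Subgroup E) ℂ
    (a := ⟨c, hcT⟩) (fun e => hc1 (congrArg Subtype.val e))
  have hpm : ∀ u : ℂˣ, u * u = 1 → u = 1 ∨ u = -1 := fun u hu => by
    have : (u : ℂ) * u = 1 := by rw [← Units.val_mul, hu, Units.val_one]
    rcases mul_self_eq_one_iff.1 this with e | e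
    · exact Or.inl (Units.ext e)
    · exact Or.inr (Units.ext (by simpa using e))
  let V := MonoidHom.transfer φ.rangeRestrict
  have hr : ∀ u : φ.range, (u : ℂˣ) * u = 1 := by
    rintro ⟨_, x, rfl⟩
    change φ x * φ x = 1
    rw [← map_mul, hsq, map_one]
  refine ⟨φ.range.subtype.comp V, ?_, fun x => hpm _ (hr (V x))⟩
  have key : ∀ (k : ℕ) (g₀ : E), g₀⁻¹ * c ^ k * g₀ ∈ (T : Subgroup E) → g₀⁻¹ * c ^ k * g₀ = c ^ k :=
    fun k g _ => by
      have : g⁻¹ * c ^ k = c ^ k * g⁻¹ := ((show Commute g⁻¹ c from hc g⁻¹).pow_right k).eq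
      rw [this, inv_mul_cancel_right]
  have hodd : Odd (T : Subgroup E).index := by
    rw [← Nat.not_even_iff_odd, even_iff_two_dvd]; exact T.not_dvd_index
  have hp : c ^ (T : Subgroup E).index = c := by
    obtain ⟨m, hm⟩ := hodd
    rw [hm, pow_succ, pow_mul, pow_two, hcc, one_pow, one_mul]
  change ((MonoidHom.transfer φ.rangeRestrict c : φ.range) : ℂˣ) = -1
  rw [MonoidHom.transfer_eq_pow _ c key]
  change φ _ = -1
  have e : (⟨c ^ (T : Subgroup E).index, MonoidHom.transfer_eq_pow_aux c key⟩ : (T : Subgroup E)) =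
      ⟨c, hcT⟩ := Subtype.ext hp
  rw [e]
  exact (hpm _ (by rw [← map_mul, hsq, map_one])).resolve_left hφ

/-- `π` is a double cover with kernel `{1, z}`, `z` the only involution -/
structure Cover {G A : Type*} [Group G] [Group A] (π : G →* A) (z : G) : Prop where
  surj : Function.Surjective π
  ker : ∀ g, π g = 1 ↔ g = 1 ∨ g = z
  ne : z ≠ 1
  uniq : ∀ g, g * g = 1 → π g = 1

namespace Cover
variable {G A : Type*} [Group G] [Group A] {π : G →* A} {z : G} (h : Cover π z)
include h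

theorem map_z : π z = 1 := (h.ker z).2 (Or.inr rfl)

theorem zz : z * z = 1 := by
  rcases (h.ker (z * z)).1 (by rw [map_mul, h.map_z, one_mul]) with e | e
  · exact e
  · exact absurd (mul_eq_left.1 e) h.ne

theorem central (g : G) : g * z = z * g := by
  rcases (h.ker (g * z * g⁻¹)).1 (by simp [h.map_z]) with e | e
  · exact absurd (by simpa using e) h.ne
  · exact mul_inv_eq_iff_eq_mul.1 e

theorem sq {g : G} (h1 : π g ≠ 1) (h2 : π g * π g = 1) : g * g = z :=
  ((h.ker (g * g)).1 (by rw [map_mul, h2])).resolve_left fun e => h1 (h.uniq g e)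

theorem sq' {g : G} (h1 : π g = 1) : g * g = 1 := by
  rcases (h.ker g).1 h1 with rfl | rfl
  · exact one_mul 1
  · exact h.zz

theorem comp {B : Type*} [Group B] (e : A ≃* B) : Cover (e.toMonoidHom.comp π) z where
  surj := e.surjective.comp h.surj
  ker := fun g => by simpa using h.ker g
  ne := h.ne
  uniq := fun g hg => by simpa using h.uniq g hg

end Cover

theorem nonempty_equiv_of_cover {G₁ G₂ A : Type*} [Group G₁] [Group G₂] [Group A] [Finite G₁]
    [Finite G₂] {π₁ : G₁ →* A} {π₂ : G₂ →* A} {z₁ : G₁} {z₂ : G₂} (h₁ : Cover π₁ z₁)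
    (h₂ : Cover π₂ z₂) (hA : ∀ (a : A) (k : ℕ), a ^ 2 ^ k = 1 → a * a = 1) :
    Nonempty (G₁ ≃* G₂) := by
  let P : Subgroup (G₁ × G₂) :=
    (π₁.comp (MonoidHom.fst G₁ G₂)).eqLocus (π₂.comp (MonoidHom.snd G₁ G₂))
  have memP : ∀ x : G₁ × G₂, x ∈ P ↔ π₁ x.1 = π₂ x.2 := fun x => Iff.rfl
  let c : P := ⟨(z₁, 1), (memP _).2 (by simp [h₁.map_z])⟩
  let d : P := ⟨(1, z₂), (memP _).2 (by simp [h₂.map_z])⟩
  let w : P := c * d
  have hw : (w : G₁ × G₂) = (z₁, z₂) := by simp [w, c, d]
  have hcc : ∀ g : P, g * c = c * g := fun g => Subtype.ext (Prod.ext (h₁.central _) (by simp [c]))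
  have hdc : ∀ g : P, g * d = d * g := fun g => Subtype.ext (Prod.ext (by simp [d]) (h₂.central _))
  have hwc : ∀ g : P, g * w = w * g := fun g => by
    rw [show g * w = g * c * d from (mul_assoc _ _ _).symm, hcc, mul_assoc, hdc, ← mul_assoc]
  have hww : w * w = 1 := Subtype.ext (by
    rw [coe_mul, hw]; exact Prod.ext h₁.zz h₂.zz)
  have hc2 : c * c = 1 := Subtype.ext (Prod.ext h₁.zz (by simp [c]))
  have hW : ∀ x : P, x ∈ zpowers w → x = 1 ∨ x = w := by
    rintro _ ⟨k, rfl⟩
    have h2 : w ^ (2 : ℤ) = 1 := by rw [zpow_two, hww]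
    rcases Int.emod_two_eq_zero_or_one k with e | e
    · left; simp only; rw [zpow_eq_zpow_emod k h2, e, zpow_zero]
    · right; simp only; rw [zpow_eq_zpow_emod k h2, e, zpow_one]
  have hN : (zpowers w).Normal := ⟨fun n hn g => by
    rcases hW n hn with rfl | rfl
    · simp
    · rw [hwc, mul_inv_cancel_right]; exact mem_zpowers _⟩
  let q := QuotientGroup.mk' (zpowers w)
  have hq : ∀ x : P, q x = 1 ↔ x ∈ zpowers w := fun x => QuotientGroup.eq_one_iff x
  obtain ⟨χ, hχc, hχ⟩ := exists_char (E := P ⧸ zpowers w) (c := q c) (fun x k hx => by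
    obtain ⟨x, rfl⟩ := QuotientGroup.mk'_surjective _ x
    change q x * q x = 1
    rw [← map_mul, hq]
    have h1 : π₁ x.1.1 ^ 2 ^ k = 1 := by
      have h3 : x ^ 2 ^ k ∈ zpowers w := (hq _).1 (by rw [map_pow]; exact hx)
      rw [← map_pow]
      rcases hW _ h3 with e | e
      · have : x.1.1 ^ 2 ^ k = 1 := congrArg (fun y : P => y.1.1) e
        rw [this, map_one]
      · have : x.1.1 ^ 2 ^ k = z₁ := (congrArg (fun y : P => y.1.1) e).trans (by rw [hw])
        rw [this, h₁.map_z]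
    have h2 := hA _ k h1
    have h4 : π₁ x.1.1 = π₂ x.1.2 := x.2
    by_cases h3 : π₁ x.1.1 = 1
    · have : x * x = 1 := Subtype.ext (Prod.ext (h₁.sq' h3) (h₂.sq' (h4 ▸ h3)))
      rw [this]; exact one_mem _
    · have : x * x = w := Subtype.ext (by
        rw [hw]; exact Prod.ext (h₁.sq h3 h2) (h₂.sq (h4 ▸ h3) (h4 ▸ h2)))
      rw [this]; exact mem_zpowers _)
    (fun g => by
      obtain ⟨g, rfl⟩ := QuotientGroup.mk'_surjective _ g
      change q g * q c = q c * q g
      rw [← map_mul, hcc, map_mul])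
    (fun e => by
      rcases hW _ ((hq c).1 e) with e | e
      · exact h₁.ne (congrArg (fun y : P => y.1.1) e)
      · exact h₂.ne ((congrArg (fun y : P => y.1.2) e).trans (by rw [hw])).symm)
    (by rw [← map_mul, hc2, map_one])
  let ψ : P →* ℂˣ := χ.comp q
  have hψc : ψ c = -1 := hχc
  have hψw : ψ w = 1 := by
    change χ (q w) = 1
    rw [(hq w).2 (mem_zpowers w), map_one]
  have hψd : ψ d = -1 := by
    have : ψ c * ψ d = 1 := by rw [← map_mul]; exact hψw
    rw [hψc] at this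
    simpa [neg_eq_iff_eq_neg] using this
  have hne : (-1 : ℂˣ) ≠ 1 := by
    intro e
    have := congrArg (fun u : ℂˣ => (u : ℂ)) e
    norm_num at this
  have hψ : ∀ x, ψ x = 1 ∨ ψ x = -1 := fun x => hχ _
  let K := ψ.ker
  let p₁ : K →* G₁ := (MonoidHom.fst G₁ G₂).comp (P.subtype.comp K.subtype)
  let p₂ : K →* G₂ := (MonoidHom.snd G₁ G₂).comp (P.subtype.comp K.subtype)
  have b₁ : Function.Bijective p₁ := by
    refine ⟨(injective_iff_map_eq_one _).2 fun x hx => ?_, fun g => ?_⟩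
    · have h1 : x.1.1.1 = 1 := hx
      have h2 : π₁ x.1.1.1 = π₂ x.1.1.2 := x.1.2
      rw [h1, map_one] at h2
      rcases (h₂.ker _).1 h2.symm with e | e
      · exact Subtype.ext (Subtype.ext (Prod.ext h1 e))
      · have : x.1 = d := Subtype.ext (Prod.ext h1 e)
        have h3 : ψ x.1 = 1 := x.2
        rw [this, hψd] at h3
        exact absurd h3 hne
    · obtain ⟨g', hg'⟩ := h₂.surj (π₁ g)
      let x : P := ⟨(g, g'), (memP _).2 hg'.symm⟩
      rcases hψ x with e | e
      · exact ⟨⟨x, e⟩, rfl⟩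
      · exact ⟨⟨x * d, by change ψ _ = 1; rw [map_mul, e, hψd]; simp⟩, mul_one g⟩
  have b₂ : Function.Bijective p₂ := by
    refine ⟨(injective_iff_map_eq_one _).2 fun x hx => ?_, fun g => ?_⟩
    · have h1 : x.1.1.2 = 1 := hx
      have h2 : π₁ x.1.1.1 = π₂ x.1.1.2 := x.1.2
      rw [h1, map_one] at h2
      rcases (h₁.ker _).1 h2 with e | e
      · exact Subtype.ext (Subtype.ext (Prod.ext e h1))
      · have : x.1 = c := Subtype.ext (Prod.ext e h1)
        have h3 : ψ x.1 = 1 := x.2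
        rw [this, hψc] at h3
        exact absurd h3 hne
    · obtain ⟨g', hg'⟩ := h₁.surj (π₂ g)
      let x : P := ⟨(g', g), (memP _).2 hg'⟩
      rcases hψ x with e | e
      · exact ⟨⟨x, e⟩, rfl⟩
      · exact ⟨⟨x * c, by change ψ _ = 1; rw [map_mul, e, hψc]; simp⟩, mul_one g⟩
  exact ⟨(MulEquiv.ofBijective p₁ b₁).symm.trans (MulEquiv.ofBijective p₂ b₂)⟩

/-- a group of order `60` with a core-free subgroup of index `5` is `A₅` -/
theorem exists_alt5 {G : Type*} [Group G] [Finite G] (f : G →* Equiv.Perm (Fin 5))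
    (h : Nat.card G = 60 * Nat.card f.ker) :
    ∃ π : G →* alternatingGroup (Fin 5), Function.Surjective π ∧ ∀ g, π g = 1 ↔ f g = 1 := by
  have h1 := f.range.card_mul_index
  have h2 := f.ker.card_mul_index
  rw [index_ker, h, mul_comm 60] at h2
  have h3 : Nat.card f.range = 60 := Nat.eq_of_mul_eq_mul_left Nat.card_pos h2
  rw [h3, Nat.card_perm] at h1
  simp [Nat.factorial] at h1
  have h4 := Equiv.Perm.eq_alternatingGroup_of_index_eq_two (G := f.range) (by omega)
  refine ⟨f.codRestrict _ fun x => h4 ▸ ⟨x, rfl⟩, fun y => ?_, fun g => ?_⟩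
  · obtain ⟨x, hx⟩ : y.1 ∈ f.range := h4.ge y.2
    exact ⟨x, Subtype.ext hx⟩
  · exact Subtype.ext_iff

theorem alt_sq (n : ℕ) (hn : n = 4 ∨ n = 5) (a : alternatingGroup (Fin n)) (k : ℕ)
    (h : a ^ 2 ^ k = 1) : a * a = 1 := by
  have key : ∀ a : alternatingGroup (Fin n), a ^ 30 = 1 := by
    rintro ⟨a, ha⟩
    apply Subtype.ext
    change a ^ 30 = 1
    rw [Equiv.Perm.mem_alternatingGroup] at ha
    revert a
    rcases hn with rfl | rfl <;> decide +kernel
  have h1 := orderOf_dvd_of_pow_eq_one h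
  have h2 := orderOf_dvd_of_pow_eq_one (key a)
  have h3 : orderOf a ∣ 2 := by
    have : (orderOf a).Coprime 15 :=
      (Nat.Coprime.pow_left k (by norm_num : Nat.Coprime 2 15)).coprime_dvd_left h1
    exact this.dvd_of_dvd_mul_right (by simpa using h2)
  rw [← pow_two]
  exact orderOf_dvd_iff_pow_eq_one.1 h3

theorem card_ker_of {G A : Type*} [Group G] [Group A] {f : G →* A} {z : G} (hz : z ≠ 1)
    (h : ∀ g, f g = 1 ↔ g = 1 ∨ g = z) : Nat.card f.ker = 2 := by
  have : (f.ker : Set G) = {1, z} := by ext g; simpa using h g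
  rw [← SetLike.coe_sort_coe, this, Nat.card_coe_set_eq, Set.ncard_pair hz.symm]

theorem cover_SL25 : ∃ π : SL(2, ZMod 5) →* alternatingGroup (Fin 5), Cover π (-1) := by
  obtain ⟨β, hβ⟩ := Frob.exists_hom_perm_five
  have hk : ∀ g : SL(2, ZMod 5), (β.comp MulAut.conj) g = 1 ↔ g = 1 ∨ g = -1 := fun g => by
    refine ⟨hβ g, ?_⟩
    rintro (rfl | rfl)
    · exact map_one _
    · have : MulAut.conj (-1 : SL(2, ZMod 5)) = 1 := by ext1 x; simp
      rw [MonoidHom.comp_apply, this, map_one]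
  obtain ⟨π, h1, h2⟩ := exists_alt5 (β.comp MulAut.conj)
    (by rw [card_ker_of Frob.sl25_neg_one_ne hk, Frob.card_sl25])
  refine ⟨π, h1, fun g => (h2 g).trans (hk g), Frob.sl25_neg_one_ne, fun g hg => ?_⟩
  rw [h2, hk]
  exact Frob.sl25_forall (P := fun M => M * M = 1 → M = 1 ∨ M = -1) (by decide +kernel) g hg

theorem cover_mk {G : Type*} [Group G] {z : G} [(zpowers z).Normal] (h1 : z ≠ 1)
    (hzz : z * z = 1) (hu : ∀ g : G, g * g = 1 → g = 1 ∨ g = z) :
    Cover (QuotientGroup.mk' (zpowers z)) z := by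
  have hk : ∀ g, QuotientGroup.mk' (zpowers z) g = 1 ↔ g = 1 ∨ g = z := fun g => by
    rw [QuotientGroup.mk'_apply, QuotientGroup.eq_one_iff]
    constructor
    · rintro ⟨k, rfl⟩
      have h2 : z ^ (2 : ℤ) = 1 := by rw [zpow_two, hzz]
      rcases Int.emod_two_eq_zero_or_one k with e | e
      · left; simp only; rw [zpow_eq_zpow_emod k h2, e, zpow_zero]
      · right; simp only; rw [zpow_eq_zpow_emod k h2, e, zpow_one]
    · rintro (rfl | rfl)
      · exact one_mem _
      · exact mem_zpowers _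
  exact ⟨QuotientGroup.mk'_surjective _, hk, h1, fun g hg => (hk g).2 (hu g hg)⟩

theorem Cover.card {G A : Type*} [Group G] [Group A] {π : G →* A} {z : G} (h : Cover π z) :
    Nat.card G = 2 * Nat.card A := by
  rw [← π.ker.card_mul_index, card_ker_of h.ne h.ker, index_ker, MonoidHom.range_eq_top.2 h.surj,
    card_top]

theorem cover_SL23 : ∃ π : SL(2, ZMod 3) →* alternatingGroup (Fin 4), Cover π (-1) := by
  have hN : (zpowers (-1 : SL(2, ZMod 3))).Normal := ⟨fun n hn g => by
    obtain ⟨k, rfl⟩ := hn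
    have : g * (-1) ^ k = (-1) ^ k * g :=
      ((show Commute g (-1) by simp [Commute, SemiconjBy]).zpow_right k).eq
    simp only
    rw [this, mul_inv_cancel_right]
    exact zpow_mem (mem_zpowers _) k⟩
  have hc := cover_mk (z := (-1 : SL(2, ZMod 3))) (by decide +kernel) (by simp) (by decide +kernel)
  set π := QuotientGroup.mk' (zpowers (-1 : SL(2, ZMod 3)))
  let x : SL(2, ZMod 3) := ⟨!![1, 1; 0, 1], by decide⟩
  let y : SL(2, ZMod 3) := ⟨!![0, 1; 2, 0], by decide⟩
  have h12 : Nat.card (SL(2, ZMod 3) ⧸ zpowers (-1 : SL(2, ZMod 3))) = 12 := by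
    have := hc.card
    rw [SL2C.card_SL2, Nat.card_zmod] at this
    omega
  have hx1 : π x ≠ 1 := fun e => by
    rw [hc.ker] at e
    rcases e with e | e
    · exact absurd (congrArg (fun M : SL(2, ZMod 3) => M 0 1) e) (by decide +kernel)
    · exact absurd (congrArg (fun M : SL(2, ZMod 3) => M 0 1) e) (by decide +kernel)
  have hx3 : π x ^ 3 = 1 := by rw [← map_pow, hc.ker]; decide +kernel
  have ho : orderOf (π x) = 3 := orderOf_eq_prime hx3 hx1
  obtain ⟨e⟩ := H5.nonempty_alt4 h12 (zpowers (π x)) (by rw [Nat.card_zpowers, ho]) fun hn => by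
    have h1 := hn.conj_mem _ (mem_zpowers (π x)) (π y)
    classical
    rw [mem_zpowers_iff_mem_range_orderOf, ho] at h1
    simp only [Finset.mem_image, Finset.mem_range] at h1
    obtain ⟨i, hi, h1⟩ := h1
    rw [← mul_inv_eq_one, ← map_pow, ← map_inv, ← map_mul, ← map_mul, ← map_inv, ← map_mul,
      hc.ker] at h1
    revert h1
    interval_cases i <;> decide +kernel
  exact ⟨_, hc.comp e⟩

end CfsgLib.CG
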