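import Mathlib
import Cfsg.Prelude.Def_Perm
import Cfsg.Agent.Lib.Suz.Huppert
import Cfsg.Agent.Lib.Suz.FieldAut
import Cfsg.Agent.Lib.FT.Main

/-! Odd order linear groups over `𝔽₂` transitive on nonzero vectors and on planes. -/

set_option autoImplicit false

namespace CfsgLib.CG

open Subgroup Cfsg CfsgLib.Suz

section Lin
variable {Y V : Type*} [Group Y] [Finite Y] [CommGroup V] [Finite V] {φ : Y →* MulAut V} {n : ℕ}

theorem exists_galois (hφ : Function.Injective φ) (hodd : Odd (Nat.card Y))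
    (hV : ∀ v : V, v * v = 1) (hn : Nat.card V = 2 ^ n) (hn0 : n ≠ 0)
    (htr : ∀ a b : V, a ≠ 1 → b ≠ 1 → ∃ y, φ y a = b) :
    ∃ e : V → GaloisField 2 n, Function.Bijective e ∧ (∀ v w, e (v * w) = e v + e w) ∧
      (∀ y, ∃ (c : GaloisField 2 n) (σ : GaloisField 2 n ≃+* GaloisField 2 n), c ≠ 0 ∧
        ∀ v, e (φ y v) = c * σ (e v)) ∧
      (∀ y ∈ fittingSubgroup Y, ∃ c : GaloisField 2 n, c ≠ 0 ∧ ∀ v, e (φ y v) = c * e v) := by
  have : Nontrivial V := Finite.one_lt_card_iff_nontrivial.1 (by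
    rw [hn]; exact Nat.one_lt_two_pow hn0)
  obtain ⟨F, _, _, _, e, h1, h2, h3, h4⟩ := huppert_field_faithful (r := 2) hφ hodd
    (FT.feit_thompson hodd) (fun v => by rw [pow_two, hV]) (Nat.coprime_two_right.2 hodd) htr
  have hF : Nat.card F = 2 ^ n := by rw [← hn]; exact (Nat.card_eq_of_bijective e h1).symm
  let _ : Algebra (ZMod 2) F := ZMod.algebra F 2
  let ι : F ≃+* GaloisField 2 n := (GaloisField.algEquivGaloisField 2 n hF).toRingEquiv
  refine ⟨ι ∘ e, ι.bijective.comp h1, fun v w => by simp [h2], fun y => ?_, fun y hy => ?_⟩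
  · obtain ⟨c, j, hc, h⟩ := h3 y
    refine ⟨ι c, iterateFrobeniusEquiv _ 2 j, by simpa using hc, fun v => ?_⟩
    simp [h, iterateFrobenius_def]
  · obtain ⟨c, h⟩ := (h4 y).1 hy
    refine ⟨ι c, fun h0 => ?_, fun v => by simp [h]⟩
    have hc : c = 0 := by simpa using h0
    obtain ⟨v, hv⟩ := exists_ne (1 : V)
    have h5 : e 1 = 0 := by simpa using h2 1 1
    refine act_ne_one φ y hv (h1.1 ?_)
    rw [h, hc, zero_mul, h5]

theorem card_eq_mul_stab (htr : ∀ a b : V, a ≠ 1 → b ≠ 1 → ∃ y, φ y a = b) {a : V} (ha : a ≠ 1) :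
    Nat.card Y = Nat.card (stab φ a) * (Nat.card V - 1) := by
  let _ : MulAction Y V := MulAction.compHom V φ
  have h1 : MulAction.stabilizer Y a = stab φ a := by ext y; rfl
  have h2 : MulAction.orbit Y a = {1}ᶜ := by
    ext b
    constructor
    · rintro ⟨y, rfl⟩
      exact act_ne_one φ y ha
    · intro hb
      exact htr a b ha hb
  rw [← (stab φ a).card_mul_index, ← h1, MulAction.index_stabilizer, h2,
    Set.ncard_compl, Set.ncard_singleton]

theorem card_stab_dvd {F : Type*} [Field F] [Finite F] [CharP F 2] (hφ : Function.Injective φ)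
    (hF : Nat.card F = 2 ^ n) {e : V → F} (h1 : Function.Bijective e)
    (h3 : ∀ y, ∃ (c : F) (σ : F ≃+* F), c ≠ 0 ∧ ∀ v, e (φ y v) = c * σ (e v)) {a : V}
    (ha : e a = 1) : Nat.card (stab φ a) ∣ n := by
  have key : ∀ y : stab φ a, ∃ σ : F ≃+* F, ∀ v, e (φ y v) = σ (e v) := fun y => by
    obtain ⟨c, σ, -, h⟩ := h3 y
    have h4 := h a
    rw [mem_stab.1 y.2, ha, map_one, mul_one] at h4
    exact ⟨σ, fun v => by rw [h, ← h4, one_mul]⟩
  choose σ hσ using key
  let ρ : stab φ a →* RingAut F := MonoidHom.mk' σ fun y z => by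
    ext x
    obtain ⟨v, rfl⟩ := h1.2 x
    change σ (y * z) (e v) = σ y (σ z (e v))
    rw [← hσ, ← hσ, ← hσ, coe_mul, act_mul]
  have hρ : Function.Injective ρ := by
    rw [injective_iff_map_eq_one]
    intro y hy
    refine Subtype.ext (hφ ?_)
    ext v
    apply h1.1
    have : σ y = 1 := hy
    rw [hσ, this]
    simp
  rw [← card_ringAut (p := 2) hF]
  exact card_dvd_of_injective ρ hρ

theorem card_pairs_le {a₀ b₀ : V}
    (htr : ∀ a b : V, a ≠ 1 → b ≠ 1 → a ≠ b → ∃ y, ∃ x ∈ ({a₀, b₀, a₀ * b₀} : Set V),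
      ∃ x' ∈ ({a₀, b₀, a₀ * b₀} : Set V), φ y x = a ∧ φ y x' = b) :
    (Nat.card V - 1) * (Nat.card V - 1) - (Nat.card V - 1) ≤ Nat.card Y * 6 := by
  classical
  have := Fintype.ofFinite V
  have := Fintype.ofFinite Y
  let S : Finset V := Finset.univ.erase 1
  let S₀ : Finset V := {a₀, b₀, a₀ * b₀}
  have hS : S.card = Nat.card V - 1 := by simp [S, Nat.card_eq_fintype_card]
  have h0 : S₀.offDiag.card ≤ 6 := by
    rw [Finset.offDiag_card]
    have : S₀.card ≤ 3 := Finset.card_le_three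
    interval_cases S₀.card <;> simp
  have hsub : S.offDiag ⊆ ((Finset.univ : Finset Y) ×ˢ S₀.offDiag).image
      fun p => (φ p.1 p.2.1, φ p.1 p.2.2) := by
    rintro ⟨a, b⟩ h
    simp only [Finset.mem_offDiag, S, Finset.mem_erase, Finset.mem_univ, and_true] at h
    obtain ⟨y, x, hx, x', hx', e1, e2⟩ := htr a b h.1 h.2.1 h.2.2
    refine Finset.mem_image.2 ⟨(y, x, x'), ?_, by simp [e1, e2]⟩
    simp only [Finset.mem_product, Finset.mem_univ, true_and, Finset.mem_offDiag]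
    refine ⟨by simpa [S₀] using hx, by simpa [S₀] using hx', fun e => h.2.2 ?_⟩
    rw [← e1, ← e2, e]
  have h1 := (Finset.card_le_card hsub).trans Finset.card_image_le
  rw [Finset.offDiag_card, hS, Finset.card_product, Finset.card_univ,
    ← Nat.card_eq_fintype_card] at h1
  exact h1.trans (Nat.mul_le_mul_left _ h0)

theorem six_mul_lt (n : ℕ) (h : 6 ≤ n) : 6 * n + 2 < 2 ^ n := by
  induction n, h using Nat.le_induction with
  | base => norm_num
  | succ k hk ih => rw [pow_succ]; omega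

theorem card_cases (hφ : Function.Injective φ) (hodd : Odd (Nat.card Y))
    (hV : ∀ v : V, v * v = 1) (hn : Nat.card V = 2 ^ n) (hn2 : 2 ≤ n)
    (htr : ∀ a b : V, a ≠ 1 → b ≠ 1 → ∃ y, φ y a = b) {a₀ b₀ : V}
    (htr2 : ∀ a b : V, a ≠ 1 → b ≠ 1 → a ≠ b → ∃ y, ∃ x ∈ ({a₀, b₀, a₀ * b₀} : Set V),
      ∃ x' ∈ ({a₀, b₀, a₀ * b₀} : Set V), φ y x = a ∧ φ y x' = b) :
    (n = 2 ∧ Nat.card Y = 3) ∨ (n = 3 ∧ (Nat.card Y = 7 ∨ Nat.card Y = 21)) ∨
      (n = 5 ∧ Nat.card Y = 155) := by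
  obtain ⟨e, h1, h2, h3, -⟩ := exists_galois hφ hodd hV hn (by omega) htr
  obtain ⟨a, ha⟩ := h1.2 1
  have h5 : e 1 = 0 := by simpa using h2 1 1
  have ha1 : a ≠ 1 := by
    rintro rfl
    exact zero_ne_one (h5.symm.trans ha)
  have hd := card_stab_dvd hφ (GaloisField.card 2 n (by omega)) h1 h3 ha
  have hc := card_eq_mul_stab htr ha1
  have hp := card_pairs_le htr2
  have ho : Odd (Nat.card (stab φ a)) := hodd.of_dvd_nat (card_subgroup_dvd_card _)
  rw [hn] at hc hp
  generalize Nat.card (stab φ a) = m at hd hc ho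
  rw [hc] at hp ⊢
  have hle : m ≤ n := Nat.le_of_dvd (by omega) hd
  have h6 : n < 6 := by
    by_contra h6
    have h7 := six_mul_lt n (by omega)
    obtain ⟨k, hk⟩ : ∃ k, 2 ^ n - 1 = k + 1 := ⟨2 ^ n - 2, by omega⟩
    rw [hk] at hp
    have h8 : (k + 1) * (k + 1) - (k + 1) = (k + 1) * k := by
      rw [Nat.mul_add_one, Nat.add_sub_cancel]
    rw [h8] at hp
    have h9 : k ≤ m * 6 := by
      refine Nat.le_of_mul_le_mul_left (c := k + 1) ?_ (Nat.succ_pos k)
      calc (k + 1) * k ≤ m * (k + 1) * 6 := hp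
        _ = (k + 1) * (m * 6) := by ring
    omega
  have hm : m ≠ 0 := by rintro rfl; simp at ho
  have h2m : m ≠ 2 := by rintro rfl; norm_num at ho
  have h4m : m ≠ 4 := by rintro rfl; norm_num at ho
  interval_cases n <;> interval_cases m <;> simp_all

end Lin

section Aff
variable (F : Type) [Field F] [Finite F]

theorem card_affine_le : Nat.card (affineGroup F) ≤ (Nat.card F - 1) * Nat.card F := by
  rw [← Nat.card_units, ← Nat.card_prod]
  let f : Fˣ × F → affineGroup F := fun p =>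
    ⟨(Units.mulLeft p.1).trans (Equiv.addRight p.2), p.1, p.2, fun x => rfl⟩
  refine Nat.card_le_card_of_surjective f ?_
  rintro ⟨σ, a, b, h⟩
  exact ⟨(a, b), Subtype.ext (Equiv.ext fun x => (h x).symm)⟩

theorem card_semiaffine_le [CharP F 2] {n : ℕ} (hF : Nat.card F = 2 ^ n) :
    Nat.card (semiaffineGroup F) ≤ (Nat.card F - 1) * (Nat.card F * n) := by
  have : Finite (F ≃+* F) := Finite.of_injective _ DFunLike.coe_injective
  rw [← Nat.card_units, ← card_ringAut (p := 2) hF, ← Nat.card_prod, ← Nat.card_prod]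
  let f : Fˣ × F × (F ≃+* F) → semiaffineGroup F := fun p =>
    ⟨p.2.2.toEquiv.trans ((Units.mulLeft p.1).trans (Equiv.addRight p.2.1)), p.1, p.2.1, p.2.2,
      fun x => rfl⟩
  refine Nat.card_le_card_of_surjective f ?_
  rintro ⟨σ, a, b, τ, h⟩
  exact ⟨(a, b, τ), Subtype.ext (Equiv.ext fun x => (h x).symm)⟩

end Aff

theorem nonempty_equiv_of_card_le {G A : Type*} [Group G] [Group A] [Finite A] (f : G →* A)
    (hf : Function.Injective f) {K : Subgroup A} (hK : ∀ g, f g ∈ K)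
    (hc : Nat.card K ≤ Nat.card G) : Nonempty (G ≃* K) := by
  have h1 : Function.Injective (f.codRestrict K hK) := fun x y h => hf (congrArg Subtype.val h)
  have : Finite G := Finite.of_injective f hf
  exact ⟨MulEquiv.ofBijective _ (h1.bijective_of_nat_card_le hc)⟩

end CfsgLib.CG
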