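import Mathlib
import Cfsg.Agent.Lib.CG.Semi
import Cfsg.Agent.Lib.CG.Aut
import Cfsg.Agent.Lib.GW.Basic
import Cfsg.Agent.Lib.H5PByCyc

/-! Groups in which subgroups of equal order are conjugate: the `2`-local structure for an
elementary abelian Sylow `2`-subgroup. -/

set_option autoImplicit false

namespace CfsgLib.CG

open Subgroup Cfsg CfsgLib.Suz

/-- subgroups of the same order are conjugate -/
def Conj (G : Type*) [Group G] : Prop :=
  ∀ H K : Subgroup G, Nat.card H = Nat.card K → ∃ g : G, K = H.map (MulAut.conj g).toMonoidHom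

/-- every `2`-element squares to `1` -/
def E2 (G : Type*) [Group G] : Prop := ∀ (x : G) (k : ℕ), x ^ 2 ^ k = 1 → x * x = 1

variable {G : Type*} [Group G] [Finite G]

theorem Conj.of_surjective (h : Conj G) {G' : Type*} [Group G'] (f : G →* G')
    (hf : Function.Surjective f) : Conj G' := by
  have : Finite G' := Finite.of_surjective f hf
  intro H K hc
  have h1 : H.index = K.index := by
    have e1 := H.card_mul_index
    rw [← K.card_mul_index, hc] at e1
    exact Nat.eq_of_mul_eq_mul_left Nat.card_pos e1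
  obtain ⟨g, hg⟩ := h (H.comap f) (K.comap f) (by
    have e1 := (H.comap f).card_mul_index
    rw [← (K.comap f).card_mul_index, index_comap_of_surjective _ hf,
      index_comap_of_surjective _ hf, h1] at e1
    exact Nat.eq_of_mul_eq_mul_right (Nat.pos_of_ne_zero index_ne_zero_of_finite) e1)
  refine ⟨f g, ?_⟩
  rw [← map_comap_eq_self_of_surjective hf K, hg, ← map_comap_eq_self_of_surjective hf H,
    comap_map_eq_self (ker_le_comap f H), map_map, map_map]
  congr 1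
  ext x
  simp

omit [Finite G] in
theorem Conj.exists_conj (h : Conj G) {H K : Subgroup G} (hc : Nat.card H = Nat.card K) :
    ∃ g : G, ∀ y ∈ K, ∃ x ∈ H, g * x * g⁻¹ = y := by
  obtain ⟨g, rfl⟩ := h H K hc
  exact ⟨g, fun y hy => hy⟩

theorem e2_of_sylow (S : Sylow 2 G) (h : ∀ x ∈ (S : Subgroup G), x * x = 1) : E2 G := by
  intro x k hx
  have hP : IsPGroup 2 (zpowers x) := by
    obtain ⟨j, -, hj⟩ := (Nat.dvd_prime_pow Nat.prime_two).1 (orderOf_dvd_of_pow_eq_one hx)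
    exact IsPGroup.of_card (by rw [Nat.card_zpowers, hj])
  obtain ⟨T, hT⟩ := hP.exists_le_sylow
  obtain ⟨g, rfl⟩ := MulAction.exists_smul_eq G S T
  obtain ⟨y, hy, e⟩ := hT (mem_zpowers x)
  have e' : g * y * g⁻¹ = x := e
  rw [← e', conj_mul, h y hy]
  simp

omit [Finite G] in
theorem E2.sylow (h : E2 G) (S : Sylow 2 G) {x : G} (hx : x ∈ (S : Subgroup G)) : x * x = 1 := by
  obtain ⟨k, hk⟩ := S.2 ⟨x, hx⟩
  exact h x k (congrArg Subtype.val hk)

theorem Conj.comm (hC : Conj G) (h2 : E2 G) {a b c : G} (ha1 : a ≠ 1) (ha : a * a = 1)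
    (hb : b * b = 1) (hc : c * c = 1) (hab : a * b = b * a) (hac : a * c = c * a) :
    b * c = c * b := by
  have ho : orderOf (b * c) ≠ 0 := (orderOf_pos _).ne'
  obtain ⟨k, m, hm, e⟩ := Nat.exists_eq_two_pow_mul_odd ho
  by_cases h1 : m = 1
  · have h3 := h2 (b * c) k (by rw [← mul_one (2 ^ k), ← h1, ← e, pow_orderOf_eq_one])
    calc b * c = (b * c)⁻¹ := (inv_eq_of_mul_eq_one_right h3).symm
      _ = c * b := by rw [mul_inv_rev, inv_eq_of_mul_self hb, inv_eq_of_mul_self hc]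
  exfalso
  obtain ⟨y, hy⟩ : ∃ y, y = (b * c) ^ 2 ^ k := ⟨_, rfl⟩
  have hoy : orderOf y = m := by
    rw [hy, orderOf_pow_of_dvd (by positivity) (e ▸ dvd_mul_right _ _), e,
      Nat.mul_div_cancel_left _ (by positivity)]
  have hinv : b * y * b = y⁻¹ := hy ▸ conj_pow_of_inv hb (by
    rw [mul_inv_rev, inv_eq_of_mul_self hb, inv_eq_of_mul_self hc, ← mul_assoc, hb, one_mul]) _
  have hnc : b * y ≠ y * b := fun e1 => by
    rw [e1, mul_assoc, hb, mul_one] at hinv
    have h3 : y ^ 2 = 1 := by rw [pow_two]; exact mul_eq_one_iff_eq_inv.2 hinv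
    have h4 := orderOf_dvd_of_pow_eq_one h3
    rw [hoy] at h4
    exact h1 (Nat.eq_one_of_dvd_coprimes (Nat.coprime_two_right.2 hm) dvd_rfl h4)
  have hay : Commute y a := hy ▸
    ((show Commute b a from hab.symm).mul_left (show Commute c a from hac.symm)).pow_left _
  have hoa : orderOf a = 2 := orderOf_eq_prime (by rw [pow_two, ha]) ha1
  obtain ⟨ε⟩ := H5.nonempty_dihedral_sup (a := y) (x := b) (by
    rintro ⟨j, hj⟩
    exact hnc (hj ▸ ((Commute.refl y).zpow_left j).eq)) hb (by rw [inv_eq_of_mul_self hb, hinv])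
  have : NeZero (orderOf y) := ⟨(orderOf_pos y).ne'⟩
  obtain ⟨g, hg⟩ := hC.exists_conj (H := zpowers (y * a)) (K := zpowers y ⊔ zpowers b) (by
    rw [Nat.card_congr ε.toEquiv, DihedralGroup.nat_card, Nat.card_zpowers,
      hay.orderOf_mul_eq_mul_orderOf_of_coprime (by rw [hoy, hoa]; exact Nat.coprime_two_right.2 hm),
      hoa, mul_comm])
  obtain ⟨_, ⟨i, rfl⟩, e1⟩ := hg y (mem_sup_left (mem_zpowers y))
  obtain ⟨_, ⟨j, rfl⟩, e2⟩ := hg b (mem_sup_right (mem_zpowers b))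
  apply hnc
  generalize y * a = w at e1 e2
  rw [← e2, ← e1]
  simp only [conj_mul, ← zpow_add, add_comm]

theorem mem_sylow_of_norm (S : Sylow 2 G) {b : G} (hb : b * b = 1)
    (h : b ∈ normalizer ((S : Subgroup G) : Set G)) : b ∈ (S : Subgroup G) := by
  have hP : IsPGroup 2 (zpowers b) := by
    obtain ⟨j, -, hj⟩ := (Nat.dvd_prime_pow (m := 1) Nat.prime_two).1
      (orderOf_dvd_of_pow_eq_one (x := b) (by rw [pow_one, pow_two, hb]))
    exact IsPGroup.of_card (by rw [Nat.card_zpowers, hj])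
  have h1 := hP.inf_normalizer_sylow S
  have : b ∈ zpowers b ⊓ normalizer ((S : Subgroup G) : Set G) := ⟨mem_zpowers b, h⟩
  exact (h1.le this).2

theorem Conj.mem_of_comm (hC : Conj G) (h2 : E2 G) (S : Sylow 2 G) {a b : G}
    (ha : a ∈ (S : Subgroup G)) (ha1 : a ≠ 1) (hb : b * b = 1) (hab : a * b = b * a) :
    b ∈ (S : Subgroup G) := by
  refine mem_sylow_of_norm S hb (centralizer_le_normalizer _ fun x hx => ?_)
  exact hC.comm h2 ha1 (h2.sylow S ha) (h2.sylow S hx) hb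
    (comm_of_sq (fun _ h => h2.sylow S h) ha hx) hab

theorem Conj.mem_norm (hC : Conj G) (h2 : E2 G) (S : Sylow 2 G) {u g : G}
    (hu : u ∈ (S : Subgroup G)) (hu1 : u ≠ 1) (h : g * u * g⁻¹ ∈ (S : Subgroup G)) :
    g ∈ normalizer ((S : Subgroup G) : Set G) := by
  refine mem_normalizer_fintype fun x hx => hC.mem_of_comm h2 S h (by simpa using hu1) ?_ ?_
  · rw [conj_mul, h2.sylow S hx]; simp
  · rw [conj_mul, conj_mul, comm_of_sq (fun _ h => h2.sylow S h) hu hx]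

/-- a complement `D` to the Sylow subgroup in its normalizer, acting faithfully -/
structure Cpl (S : Sylow 2 G) (D : Subgroup G) : Prop where
  le : D ≤ normalizer ((S : Subgroup G) : Set G)
  odd : Odd (Nat.card D)
  dec : ∀ h ∈ normalizer ((S : Subgroup G) : Set G), ∃ x ∈ (S : Subgroup G), ∃ d ∈ D, h = x * d
  faith : ∀ d ∈ D, (∀ x ∈ (S : Subgroup G), x * d = d * x) → d = 1

theorem Cpl.exists_D {S : Sylow 2 G} {D : Subgroup G} (h : Cpl S D) (h2 : E2 G) {g : G}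
    (hg : g ∈ normalizer ((S : Subgroup G) : Set G)) :
    ∃ d ∈ D, ∀ u ∈ (S : Subgroup G), d * u * d⁻¹ = g * u * g⁻¹ := by
  obtain ⟨x, hx, d, hd, rfl⟩ := h.dec g hg
  refine ⟨d, hd, fun u hu => ?_⟩
  have h1 : d * u * d⁻¹ ∈ (S : Subgroup G) := (mem_normalizer_iff.1 (h.le hd) u).1 hu
  calc d * u * d⁻¹ = x * (d * u * d⁻¹) * x⁻¹ := by
        rw [comm_of_sq (fun _ h => h2.sylow S h) hx h1, mul_inv_cancel_right]
    _ = _ := by group

theorem Cpl.lin {S : Sylow 2 G} {D : Subgroup G} (h : Cpl S D) (hC : Conj G) (h2 : E2 G) {n : ℕ}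
    (hn : Nat.card (S : Subgroup G) = 2 ^ n) (hn2 : 2 ≤ n) :
    ((n = 2 ∧ Nat.card D = 3) ∨ (n = 3 ∧ (Nat.card D = 7 ∨ Nat.card D = 21)) ∨
      (n = 5 ∧ Nat.card D = 155)) ∧
    ∃ e : ↥(S : Subgroup G) → GaloisField 2 n, Function.Bijective e ∧
      (∀ v w, e (v * w) = e v + e w) ∧
      (∀ d ∈ D, ∃ (c : GaloisField 2 n) (σ : GaloisField 2 n ≃+* GaloisField 2 n), c ≠ 0 ∧
        ∀ v w : (S : Subgroup G), (w : G) = d * v * d⁻¹ → e w = c * σ (e v)) ∧
      (Group.IsNilpotent D → ∀ d ∈ D, ∃ c : GaloisField 2 n, c ≠ 0 ∧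
        ∀ v w : (S : Subgroup G), (w : G) = d * v * d⁻¹ → e w = c * e v) := by
  have hsq : ∀ x ∈ (S : Subgroup G), x * x = 1 := fun _ h => h2.sylow S h
  let _ : CommGroup (S : Subgroup G) :=
    { mul_comm := fun x y => Subtype.ext (comm_of_sq hsq x.2 y.2) }
  let φ : D →* MulAut (S : Subgroup G) :=
    (S : Subgroup G).normalizerMonoidHom.comp (inclusion h.le)
  have hφa : ∀ (d : D) (v : (S : Subgroup G)), (φ d v : G) = d * v * (d : G)⁻¹ := fun _ _ => rfl
  have hφ : Function.Injective φ := by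
    rw [injective_iff_map_eq_one]
    intro d hd
    refine Subtype.ext (h.faith d d.2 fun x hx => ?_)
    have := hφa d ⟨x, hx⟩
    rw [hd] at this
    exact eq_mul_inv_iff_mul_eq.1 this
  have hV : ∀ v : (S : Subgroup G), v * v = 1 := fun v => Subtype.ext (hsq v v.2)
  have hord : ∀ v : (S : Subgroup G), v ≠ 1 → orderOf (v : G) = 2 := fun v hv =>
    orderOf_eq_prime (by rw [pow_two, hsq v v.2]) fun e => hv (Subtype.ext e)
  have htr : ∀ a b : (S : Subgroup G), a ≠ 1 → b ≠ 1 → ∃ y, φ y a = b := fun a b ha hb => by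
    obtain ⟨g, hg⟩ := hC.exists_conj (H := zpowers (a : G)) (K := zpowers (b : G)) (by
      rw [Nat.card_zpowers, Nat.card_zpowers, hord a ha, hord b hb])
    obtain ⟨x, hx, e⟩ := hg b (mem_zpowers _)
    rcases (GW.mem_zpowers_inv (hord a ha)).1 hx with rfl | rfl
    · exact absurd (Subtype.ext (by simpa using e.symm)) hb
    obtain ⟨d, hd, hd'⟩ := h.exists_D h2 (hC.mem_norm h2 S a.2 (fun e => ha (Subtype.ext e))
      (e ▸ b.2))
    exact ⟨⟨d, hd⟩, Subtype.ext ((hd' a a.2).trans e)⟩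
  obtain ⟨a₀, b₀, ha₀, hb₀, hab₀⟩ : ∃ a b : (S : Subgroup G), a ≠ 1 ∧ b ≠ 1 ∧ a ≠ b := by
    have := Fintype.ofFinite (S : Subgroup G)
    have h4 : 2 < Fintype.card (S : Subgroup G) := by
      rw [← Nat.card_eq_fintype_card, hn]
      exact lt_of_lt_of_le (by norm_num) (Nat.pow_le_pow_right two_pos hn2)
    obtain ⟨x, y, z, h1, h3, h5⟩ := Fintype.two_lt_card_iff.1 h4
    by_cases hx : x = 1
    · exact ⟨y, z, hx ▸ h1.symm, hx ▸ h3.symm, h5⟩
    by_cases hy : y = 1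
    · exact ⟨x, z, hx, hy ▸ h5.symm, h3⟩
    · exact ⟨x, y, hx, hy, h1⟩
  have hfour : ∀ a b : (S : Subgroup G), a ≠ 1 → b ≠ 1 → a ≠ b → GW.Four (a : G) b :=
    fun a b ha hb hab => ⟨hord a ha, hord b hb, comm_of_sq hsq a.2 b.2, fun e => hab (Subtype.ext e)⟩
  refine ⟨card_cases hφ h.odd hV hn hn2 htr (a₀ := a₀) (b₀ := b₀) fun a b ha hb hab => ?_, ?_⟩
  · have f0 := hfour a₀ b₀ ha₀ hb₀ hab₀
    obtain ⟨g, hg⟩ := hC.exists_conj (f0.card_V.trans (hfour a b ha hb hab).card_V.symm)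
    have key : ∀ c : (S : Subgroup G), c ≠ 1 → (c : G) ∈ GW.V (a : G) b →
        ∃ x ∈ ({a₀, b₀, a₀ * b₀} : Set (S : Subgroup G)), x ≠ 1 ∧ g * x * g⁻¹ = c := by
      intro c hc hc'
      obtain ⟨x, hx, e⟩ := hg c hc'
      have hx1 : x ≠ 1 := by
        rintro rfl
        exact hc (Subtype.ext (by simpa using e.symm))
      rcases f0.mem_V.1 hx with rfl | rfl | rfl | rfl
      · exact absurd rfl hx1
      · exact ⟨a₀, by simp, ha₀, e⟩
      · exact ⟨b₀, by simp, hb₀, e⟩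
      · exact ⟨a₀ * b₀, by simp, fun e => hx1 (congrArg Subtype.val e), e⟩
    obtain ⟨x, hx, hx1, e1⟩ := key a ha (GW.t_mem_V _ _)
    obtain ⟨x', hx', -, e2⟩ := key b hb (GW.s_mem_V _ _)
    obtain ⟨d, hd, hd'⟩ := h.exists_D h2 (hC.mem_norm h2 S x.2 (fun e => hx1 (Subtype.ext e))
      (e1 ▸ a.2))
    exact ⟨⟨d, hd⟩, x, hx, x', hx', Subtype.ext ((hd' x x.2).trans e1),
      Subtype.ext ((hd' x' x'.2).trans e2)⟩
  · obtain ⟨e, h1, h3, h4, h5⟩ := exists_galois hφ h.odd hV hn (by omega) htr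
    refine ⟨e, h1, h3, fun d hd => ?_, fun hD d hd => ?_⟩
    · obtain ⟨c, σ, hc, h6⟩ := h4 ⟨d, hd⟩
      exact ⟨c, σ, hc, fun v w e' => by rw [← h6]; congr 1; exact Subtype.ext e'⟩
    · have hF : (⊤ : Subgroup D) ≤ fittingSubgroup D :=
        le_sSup ⟨inferInstance, (Group.isNilpotent_congr topEquiv).2 hD⟩
      obtain ⟨c, hc, h6⟩ := h5 ⟨d, hd⟩ (hF (mem_top _))
      exact ⟨c, hc, fun v w e' => by rw [← h6]; congr 1; exact Subtype.ext e'⟩

end CfsgLib.CG
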