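import Mathlib
import Cfsg.Agent.Lib.CG.Local
import Cfsg.Agent.Lib.CorePi

/-! Groups in which subgroups of equal order are conjugate: a normal elementary abelian Sylow
`2`-subgroup. -/

set_option autoImplicit false

namespace CfsgLib.CG

open Subgroup Cfsg CfsgLib.Suz

variable {G : Type*} [Group G] [Finite G]

theorem eq_bot_of_odd (hO : pPrimeCore 2 G = ⊥) {N : Subgroup G} [N.Normal]
    (h : Odd (Nat.card N)) : N = ⊥ :=
  le_bot_iff.1 (hO ▸ le_pPrimeCore (Nat.coprime_two_right.2 h))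

theorem exists_cpl (hO : pPrimeCore 2 G = ⊥) (h2 : E2 G) (S : Sylow 2 G)
    [hN : (S : Subgroup G).Normal] :
    ∃ D : Subgroup G, Cpl S D ∧ (S : Subgroup G).IsComplement' D := by
  obtain ⟨D, hD⟩ := exists_right_complement'_of_coprime S.card_coprime_index
  have hodd : Odd (Nat.card D) := by
    rw [← hD.symm.index_eq_card, ← Nat.not_even_iff_odd, even_iff_two_dvd]
    exact S.not_dvd_index
  have hdec : ∀ h : G, ∃ x ∈ (S : Subgroup G), ∃ d ∈ D, h = x * d := fun h => by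
    obtain ⟨⟨x, d⟩, e⟩ := hD.2 h
    exact ⟨x, x.2, d, d.2, e.symm⟩
  refine ⟨D, ⟨by rw [normalizer_eq_top]; exact le_top, hodd, fun h _ => hdec h, fun d hd h => ?_⟩,
    hD⟩
  have hK : (D ⊓ centralizer ((S : Subgroup G) : Set G)).Normal := ⟨fun y hy g => by
    obtain ⟨x, hx, d, hd, rfl⟩ := hdec g
    have h1 : d * y * d⁻¹ ∈ D ⊓ centralizer ((S : Subgroup G) : Set G) :=
      ⟨D.mul_mem (D.mul_mem hd hy.1) (D.inv_mem hd),
        (inferInstance : (centralizer ((S : Subgroup G) : Set G)).Normal).conj_mem _ hy.2 d⟩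
    have h3 : x * d * y * (x * d)⁻¹ = x * (d * y * d⁻¹) * x⁻¹ := by group
    rw [h3, h1.2 x hx, mul_inv_cancel_right]
    exact h1⟩
  have := eq_bot_of_odd hO (N := D ⊓ centralizer ((S : Subgroup G) : Set G))
    (hodd.of_dvd_nat (card_dvd_of_le inf_le_left))
  exact mem_bot.1 (this ▸ ⟨hd, h⟩)

theorem exists_perm_rep {S D : Subgroup G} [hN : S.Normal] (hD : S.IsComplement' D)
    (hf : ∀ d ∈ D, (∀ x ∈ S, x * d = d * x) → d = 1) {F : Type*} [AddCommGroup F] {e : S → F}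
    (h1 : Function.Bijective e) (h3 : ∀ v w, e (v * w) = e v + e w) :
    ∃ ρ : G →* Equiv.Perm F, Function.Injective ρ ∧ ∀ (x : S) (d : G) (_ : d ∈ D) (u : S),
      ρ (x * d) (e u) = e ⟨d * u * d⁻¹, hN.conj_mem _ u.2 d⟩ + e x := by
  have hψ : Function.Bijective fun u : S => ((u : G) : G ⧸ D) := by
    constructor
    · intro u v h
      have h4 : (u : G)⁻¹ * v ∈ D := QuotientGroup.eq.1 h
      have h5 := disjoint_def.1 hD.disjoint (S.mul_mem (S.inv_mem u.2) v.2) h4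
      exact Subtype.ext (inv_mul_eq_one.1 h5)
    · intro y
      obtain ⟨g, rfl⟩ := QuotientGroup.mk_surjective y
      obtain ⟨⟨x, d⟩, e⟩ := hD.2 g
      refine ⟨x, QuotientGroup.eq.2 ?_⟩
      rw [← e]
      simp
  let ε : G ⧸ D ≃ F := (Equiv.ofBijective _ hψ).symm.trans (Equiv.ofBijective e h1)
  have hε : ∀ u : S, ε ((u : G) : G ⧸ D) = e u := fun u => by
    change e ((Equiv.ofBijective _ hψ).symm (Equiv.ofBijective _ hψ u)) = e u
    rw [Equiv.symm_apply_apply]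
  let ρ : G →* Equiv.Perm F := ε.permCongrHom.toMonoidHom.comp (MulAction.toPermHom G (G ⧸ D))
  have hρ : ∀ (x : S) (d : G) (_ : d ∈ D) (u : S),
      ρ (x * d) (e u) = e ⟨d * u * d⁻¹, hN.conj_mem _ u.2 d⟩ + e x := fun x d hd u => by
    change ε (((x : G) * d) • ε.symm (e u)) = _
    rw [← hε, Equiv.symm_apply_apply, add_comm, ← h3, ← hε]
    congr 1
    refine QuotientGroup.eq.2 ?_
    simpa [mul_assoc] using hd
  refine ⟨ρ, (injective_iff_map_eq_one _).2 fun g hg => ?_, hρ⟩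
  obtain ⟨⟨x, d⟩, rfl⟩ := hD.2 g
  have h0 : e 1 = 0 := by simpa using h3 1 1
  have h4 := hρ x d d.2
  simp only at hg
  rw [hg] at h4
  have h5 : x = 1 := by
    have h6 := h4 1
    have h7 : (⟨d * (1 : S) * (d : G)⁻¹, hN.conj_mem _ (1 : S).2 d⟩ : S) = 1 :=
      Subtype.ext (by simp)
    rw [h7, Equiv.Perm.one_apply, left_eq_add, ← h0] at h6
    exact h1.1 h6
  have h6 : (d : G) = 1 := hf d d.2 fun u hu => by
    have h7 := h4 ⟨u, hu⟩
    rw [h5, h0, add_zero] at h7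
    exact eq_mul_inv_iff_mul_eq.1 (congrArg Subtype.val (h1.1 h7))
  simp [h5, h6]

theorem normal_case (hC : Conj G) (hO : pPrimeCore 2 G = ⊥) (h2 : E2 G) (S : Sylow 2 G)
    [hN : (S : Subgroup G).Normal] {n : ℕ} (hn : Nat.card (S : Subgroup G) = 2 ^ n) (hn2 : 2 ≤ n) :
    (n = 2 ∧ Nonempty (G ≃* alternatingGroup (Fin 4))) ∨
    (n = 3 ∧ (Nonempty (G ≃* affineGroup (GaloisField 2 3)) ∨
      Nonempty (G ≃* semiaffineGroup (GaloisField 2 3)))) ∨
    (n = 5 ∧ Nonempty (G ≃* semiaffineGroup (GaloisField 2 5))) := by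
  obtain ⟨D, hD, hc⟩ := exists_cpl hO h2 S
  obtain ⟨hcases, e, h1, h3, h4, h5⟩ := hD.lin hC h2 hn hn2
  obtain ⟨ρ, hρ, hρ'⟩ := exists_perm_rep hc hD.faith h1 h3
  have hG := hc.card_mul
  have hF := GaloisField.card 2 n (by omega)
  have hsemi : ∀ g, ρ g ∈ semiaffineGroup (GaloisField 2 n) := fun g => by
    obtain ⟨⟨x, d⟩, rfl⟩ := hc.2 g
    obtain ⟨c, σ, hc0, h6⟩ := h4 d d.2
    refine ⟨Units.mk0 c hc0, e x, σ, fun y => ?_⟩
    obtain ⟨u, rfl⟩ := h1.2 y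
    rw [hρ' x d d.2, h6 u _ rfl]
    rfl
  have hs := card_semiaffine_le _ hF
  rw [hF] at hs
  rw [hn] at hG
  rcases hcases with ⟨rfl, hd⟩ | ⟨rfl, hd | hd⟩ | ⟨rfl, hd⟩
  · refine Or.inl ⟨rfl, H5.nonempty_alt4 (by rw [← hG, hd]; rfl) D hd fun hn => ?_⟩
    rw [eq_bot_of_odd hO hD.odd, card_bot] at hd
    omega
  · refine Or.inr (Or.inl ⟨rfl, Or.inl (nonempty_equiv_of_card_le ρ hρ (fun g => ?_) ?_)⟩)
    · obtain ⟨⟨x, d⟩, rfl⟩ := hc.2 g
      have : Fact (Nat.Prime 7) := ⟨by norm_num⟩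
      obtain ⟨c, hc0, h6⟩ := h5 (IsPGroup.of_card (p := 7) (n := 1) hd).isNilpotent d d.2
      refine ⟨Units.mk0 c hc0, e x, fun y => ?_⟩
      obtain ⟨u, rfl⟩ := h1.2 y
      rw [hρ' x d d.2, h6 u _ rfl]
      rfl
    · have := card_affine_le (GaloisField 2 3)
      rw [hF] at this
      omega
  · exact Or.inr (Or.inl ⟨rfl, Or.inr (nonempty_equiv_of_card_le ρ hρ hsemi (by omega))⟩)
  · exact Or.inr (Or.inr ⟨rfl, nonempty_equiv_of_card_le ρ hρ hsemi (by omega)⟩)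

end CfsgLib.CG
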