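import Mathlib
import Cfsg.Agent.Lib.CG.Normal
import Cfsg.Agent.Lib.CG.Cover
import Cfsg.Agent.Lib.SE.Quot
import Cfsg.Agent.Lib.Suz.Main

/-! Groups in which subgroups of equal order are conjugate: a non-normal elementary abelian Sylow
`2`-subgroup. -/

set_option autoImplicit false

namespace CfsgLib.CG

open Subgroup Cfsg CfsgLib.Suz

universe u

section Simple
variable {G : Type*} [Group G] [Finite G] {H Q : Subgroup G} {t : G}

theorem t_mem_closure (R : RO H Q t) (h2 : Rank2 Q) : t ∈ normalClosure (Q : Set G) :=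
  (R.le_normal_of_even h2 (R.even.trans_dvd (card_dvd_of_le le_normalClosure))).1

theorem simple_closure (R : RO H Q t) (h2 : Rank2 Q) (hc : H.normalCore = ⊥) :
    IsSimpleGroup (normalClosure (Q : Set G)) := by
  have ht := t_mem_closure R h2
  have hQ : Q ≤ normalClosure (Q : Set G) := le_normalClosure
  have RM := R.sub_of_le ht hQ
  have h2M : Rank2 (Q.subgroupOf (normalClosure (Q : Set G))) := by
    rwa [rank2_subgroupOf, inf_eq_left.2 hQ]
  have : Nontrivial (normalClosure (Q : Set G)) := ⟨⟨⟨t, ht⟩, 1, RM.t_ne⟩⟩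
  refine ⟨fun N hN => ?_⟩
  rcases Nat.even_or_odd (Nat.card N) with he | ho
  · right
    obtain ⟨h1, -, h3⟩ := RM.le_normal_of_even h2M he
    have ht' : t ∈ N.map (normalClosure (Q : Set G)).subtype := mem_map_of_mem _ h1
    have hQ' : ∀ x ∈ Q, x ∈ N.map (normalClosure (Q : Set G)).subtype := fun x hx =>
      mem_map_of_mem (normalClosure (Q : Set G)).subtype (x := ⟨x, hQ hx⟩) (h3 hx)
    have key : normalClosure (Q : Set G) ≤ N.map (normalClosure (Q : Set G)).subtype := by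
      refine (closure_le _).2 fun z hz => ?_
      obtain ⟨x, hx, hxz⟩ := Group.mem_conjugatesOfSet_iff.1 hz
      obtain ⟨g, rfl⟩ := isConj_iff.1 hxz
      by_cases hg : g ∈ H
      · exact hQ' _ (R.norm' hg hx)
      obtain ⟨a, ha, d, hd, y, hy, rfl⟩ := R.canon3 hg
      have h4 := hQ' _ (R.norm' (H.mul_mem (Dg_le (R.conj_t_mem_D hd)) (R.le hy)) hx)
      have e : a * d * t * y * x * (a * d * t * y)⁻¹ =
          a * t * (t * d * t * y * x * (t * d * t * y)⁻¹) * (a * t)⁻¹ := by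
        simp only [mul_inv_rev, R.t_inv, mul_assoc, R.tt']
      rw [SetLike.mem_coe, e]
      exact mul_mem (mul_mem (mul_mem (hQ' a ha) ht') h4) (inv_mem (mul_mem (hQ' a ha) ht'))
    rw [eq_top_iff]
    intro x _
    obtain ⟨y, hy, e⟩ := key x.2
    exact (Subtype.ext e : y = x) ▸ hy
  · left
    rw [eq_bot_iff]
    intro x hx
    have h1 := RM.mem_normalCore_iff.1 (normal_le_normalCore.2 (RM.normal_le_of_odd h2M ho) hx)
    rw [Dg_subgroupOf] at h1
    have h3 : (x : G) ∈ H.normalCore := R.mem_normalCore_iff.2 ⟨h1.1, fun y hy =>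
      congrArg Subtype.val (h1.2 ⟨y, hQ hy⟩ hy)⟩
    rw [hc] at h3
    exact Subtype.ext h3

end Simple

variable {G : Type u} [Group G] [Finite G]

theorem exists_RO (hC : Conj G) (hO : pPrimeCore 2 G = ⊥) (h2 : E2 G) (S : Sylow 2 G)
    (hN : ¬ (S : Subgroup G).Normal) {n : ℕ} (hn : Nat.card (S : Subgroup G) = 2 ^ n)
    (hn2 : 2 ≤ n) : ∃ t, RO (normalizer ((S : Subgroup G) : Set G)) S t ∧ Rank2 (S : Subgroup G) ∧
      (normalizer ((S : Subgroup G) : Set G)).normalCore = ⊥ := by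
  set H := normalizer ((S : Subgroup G) : Set G) with hH
  have hsq : ∀ x ∈ (S : Subgroup G), x * x = 1 := fun _ h => h2.sylow S h
  have hne : H ≠ ⊤ := fun h => hN (normalizer_eq_top_iff.1 h)
  have hkey : ∀ u g : G, u ≠ 1 → u * u = 1 → u ∈ H → g * u * g⁻¹ ∈ H → g ∈ H :=
    fun u g h1 h3 hu hg => hC.mem_norm h2 S (mem_sylow_of_norm S h3 hu) h1
      (mem_sylow_of_norm S (by rw [conj_mul, h3]; simp) hg)
  have hse : IsStronglyEmbedded H := by
    refine ⟨hne, Even.trans_dvd (by rw [hn]; exact (even_two.pow_of_ne_zero (by omega)))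
      (card_dvd_of_le le_normalizer), fun g hg => SE.odd_of_forall ?_⟩
    rintro _ ⟨h1, v, hv, rfl⟩ hu
    refine hg (hkey v g (fun e => hu.2 (by simp [e])) ?_ hv h1)
    have := hu.1
    rw [← map_mul] at this
    exact (MulAut.conj g).injective (this.trans (map_one _).symm)
  have hs : Group.IsSolvable H := by
    have : IsMulCommutative ((S : Subgroup G).subgroupOf H) :=
      ⟨⟨fun x y => Subtype.ext (Subtype.ext (comm_of_sq hsq x.2 y.2))⟩⟩
    refine isSolvable_of_normal_of_quotient ((S : Subgroup G).subgroupOf H)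
      isSolvable_of_isMulCommutative (FT.feit_thompson ?_)
    rw [← Nat.not_even_iff_odd, even_iff_two_dvd]
    exact fun h => S.not_dvd_index (h.trans (relIndex_dvd_index_of_le le_normalizer))
  have hc : H.normalCore = ⊥ := by
    refine eq_bot_of_odd hO (SE.odd_of_forall fun u hu hu' => hne ?_)
    rw [eq_top_iff]
    intro g _
    exact hkey u g hu'.2 hu'.1 (normalCore_le H hu) (hu g)
  obtain ⟨a, b, ha, hb, hab⟩ : ∃ a b : (S : Subgroup G), a ≠ 1 ∧ b ≠ 1 ∧ a ≠ b := by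
    have := Fintype.ofFinite (S : Subgroup G)
    have h4 : 2 < Fintype.card (S : Subgroup G) := by
      rw [← Nat.card_eq_fintype_card, hn]
      exact lt_of_lt_of_le (by norm_num) (Nat.pow_le_pow_right two_pos hn2)
    obtain ⟨x, y, z, h1, h3, h5⟩ := Fintype.two_lt_card_iff.1 h4
    by_cases hx : x = 1
    · exact ⟨y, z, hx ▸ h1.symm, hx ▸ h3.symm, h5⟩
    by_cases hy : y = 1
    · exact ⟨x, z, hx, hy ▸ h5.symm, h3⟩
    · exact ⟨x, y, hx, hy, h1⟩
  obtain ⟨Q, t, R, hR⟩ := SE.bender_tc hse hs hc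
    ⟨a, mem_top _, b, mem_top _, ⟨hsq a a.2, fun e => ha (Subtype.ext e)⟩,
      ⟨hsq b b.2, fun e => hb (Subtype.ext e)⟩, fun e => hab (Subtype.ext e),
      comm_of_sq hsq a.2 b.2⟩
    fun u hu v hv h3 h4 => comm_of_sq hsq (mem_sylow_of_norm S h3 hu) (mem_sylow_of_norm S h4 hv)
  have hQ : Q = S := (S.is_maximal' (R.isPGroup_two hR) fun x hx =>
    R.mem_Q_of_invol (le_normalizer hx) (hsq x hx))
  subst hQ
  exact ⟨t, R, hR, hc⟩

theorem rank_one_case (hC : Conj G) (hO : pPrimeCore 2 G = ⊥) (h2 : E2 G) (S : Sylow 2 G)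
    (hN : ¬ (S : Subgroup G).Normal) {n : ℕ} (hn : Nat.card (S : Subgroup G) = 2 ^ n)
    (hn2 : 2 ≤ n) :
    (n = 2 ∧ Nonempty (G ≃* alternatingGroup (Fin 5))) ∨
    (n = 3 ∧ Nonempty (G ≃* Matrix.ProjectiveSpecialLinearGroup (Fin 2) (GaloisField 2 3))) ∨
    (n = 5 ∧ Nonempty (G ≃*
      MulAut (Matrix.ProjectiveSpecialLinearGroup (Fin 2) (GaloisField 2 5)))) := by
  obtain ⟨t, R, hR, hc⟩ := exists_RO hC hO h2 S hN hn hn2
  set H := normalizer ((S : Subgroup G) : Set G) with hH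
  have hsq : ∀ x ∈ (S : Subgroup G), x * x = 1 := fun _ h => h2.sylow S h
  have hD : Cpl S (Dg H t) := ⟨Dg_le, R.odd, R.dec, fun d hd h => by
    have := R.mem_normalCore_iff.2 ⟨hd, h⟩
    rwa [hc, mem_bot] at this⟩
  obtain ⟨hcases, -⟩ := hD.lin hC h2 hn hn2
  have := simple_closure R hR hc
  set M := normalClosure ((S : Subgroup G) : Set G) with hM
  have ht : t ∈ M := t_mem_closure R hR
  have hQ : (S : Subgroup G) ≤ M := le_normalClosure
  have RM := R.sub_of_le ht hQ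
  have hRM : Rank2 ((S : Subgroup G).subgroupOf M) := by rwa [rank2_subgroupOf, inf_eq_left.2 hQ]
  have hsqM : ∀ x ∈ (S : Subgroup G).subgroupOf M, x * x = 1 := fun x hx =>
    Subtype.ext (hsq x hx)
  obtain ⟨hK, m, -, hm, hDM, -, ⟨ε⟩⟩ := RM.simple_of_sq hRM hsqM
  have hmn : m = n := by
    rw [card_subgroupOf_eq, inf_eq_left.2 hQ, hn] at hm
    exact (Nat.pow_right_injective le_rfl hm).symm
  subst hmn
  have hG := R.card_G
  have hGM := RM.card_G
  rw [hn] at hG
  rw [hm] at hGM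
  rcases hcases with ⟨rfl, hd⟩ | ⟨rfl, hd | hd⟩ | ⟨rfl, hd⟩
  · have hi : Nat.card (G ⧸ H) = 5 := by
      have := R.index_H
      rwa [hn] at this
    let e : G ⧸ H ≃ Fin 5 := Finite.equivFinOfCardEq hi
    let f : G →* Equiv.Perm (Fin 5) :=
      e.permCongrHom.toMonoidHom.comp (MulAction.toPermHom G (G ⧸ H))
    have hf : Function.Injective f := by
      refine e.permCongrHom.injective.comp ?_
      rw [← MonoidHom.ker_eq_bot_iff, ← normalCore_eq_ker, hc]
    obtain ⟨π, h1, h3⟩ := exists_alt5 f (by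
      rw [(MonoidHom.ker_eq_bot_iff f).2 hf, card_bot, hG, hd]; rfl)
    exact Or.inl ⟨rfl, ⟨MulEquiv.ofBijective π ⟨(injective_iff_map_eq_one _).2 fun g hg =>
      (injective_iff_map_eq_one _).1 hf g ((h3 g).1 hg), h1⟩⟩⟩
  · have h7 : Nat.card (Dg (H.subgroupOf M) ⟨t, ht⟩) = 7 := by omega
    have hT : M = ⊤ := eq_top_of_card_eq M (by rw [hG, hGM, hd, h7])
    exact Or.inr (Or.inl ⟨rfl, ⟨topEquiv.symm.trans ((MulEquiv.subgroupCongr hT.symm).trans ε)⟩⟩)
  · exfalso
    have h7 : Nat.card (Dg (H.subgroupOf M) ⟨t, ht⟩) = 7 := by omega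
    have : Fact (Nat.Prime 3) := ⟨Nat.prime_three⟩
    obtain ⟨d, hd3⟩ := exists_prime_orderOf_dvd_card' (G := Dg H t) 3 (by rw [hd]; norm_num)
    obtain ⟨x, hx3⟩ := exists_prime_orderOf_dvd_card' (G := M) 3 (by rw [hGM, h7]; norm_num)
    obtain ⟨g, hg⟩ := hC.exists_conj (H := zpowers (x : G)) (K := zpowers (d : G)) (by
      rw [Nat.card_zpowers, Nat.card_zpowers, orderOf_coe, orderOf_coe, hd3, hx3])
    obtain ⟨y, hy, e⟩ := hg d (mem_zpowers _)
    have hdM : (d : G) ∈ M := e ▸ (inferInstance : M.Normal).conj_mem _ (zpowers_le.2 x.2 hy) g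
    have h1 : (⟨d, hdM⟩ : M) ∈ Dg (H.subgroupOf M) ⟨t, ht⟩ := by
      rw [Dg_subgroupOf]; exact d.2
    have h3 := Subgroup.orderOf_dvd_natCard _ h1
    rw [h7, ← orderOf_coe, orderOf_coe d, hd3] at h3
    norm_num at h3
  · have h7 : Nat.card (Dg (H.subgroupOf M) ⟨t, ht⟩) = 31 := by omega
    have hf : Function.Injective (MulAut.conjNormal (H := M)) := by
      rw [← MonoidHom.ker_eq_bot_iff]
      refine eq_bot_of_odd hO (Nat.not_even_iff_odd.1 fun he => ?_)
      have h1 : MulAut.conjNormal (H := M) t = 1 := (R.le_normal_of_even hR he).1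
      obtain ⟨x, hx, -, -, hx1, -⟩ := hR
      have h3 := MulAut.conjNormal_apply t (⟨x, hQ hx⟩ : M)
      rw [h1] at h3
      exact R.t_notMem (R.mem_H_of_comm hx hx1 (eq_mul_inv_iff_mul_eq.1 h3))
    have : Finite (MulAut M) := Finite.of_injective _ DFunLike.coe_injective
    have hle := card_mulAut_le RM hRM hsqM hK hm
    exact Or.inr (Or.inr ⟨rfl, ⟨(MulEquiv.ofBijective _ (hf.bijective_of_nat_card_le
      (by omega))).trans (MulAut.congr ε)⟩⟩)

end CfsgLib.CG
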