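import Mathlib
import Cfsg.Agent.Lib.CG.RankOne
import Cfsg.Agent.Lib.Blk.BS
import Cfsg.Agent.Lib.PComplement

/-! Groups in which subgroups of equal order are conjugate: the quaternion case. -/

set_option autoImplicit false

namespace CfsgLib.CG

open Subgroup Cfsg
open scoped MatrixGroups

universe u

variable {G : Type u} [Group G] [Finite G]

theorem four_case (hC : Conj G) (hO : pPrimeCore 2 G = ⊥) (h2 : E2 G) (S : Sylow 2 G)
    (hn : Nat.card (S : Subgroup G) = 2 ^ 2) :
    Nonempty (G ≃* alternatingGroup (Fin 4)) ∨ Nonempty (G ≃* alternatingGroup (Fin 5)) := by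
  by_cases hN : (S : Subgroup G).Normal
  · rcases normal_case hC hO h2 S hn le_rfl with h | h | h
    · exact Or.inl h.2
    · exact absurd h.1 (by norm_num)
    · exact absurd h.1 (by norm_num)
  · rcases rank_one_case hC hO h2 S hN hn le_rfl with h | h | h
    · exact Or.inr h.2
    · exact absurd h.1 (by norm_num)
    · exact absurd h.1 (by norm_num)

theorem pPrimeCore_quotient_central (hO : pPrimeCore 2 G = ⊥) {Z : Subgroup G} [Z.Normal]
    (hZ : Z ≤ center G) : pPrimeCore 2 (G ⧸ Z) = ⊥ := by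
  set N := (pPrimeCore 2 (G ⧸ Z)).comap (QuotientGroup.mk' Z) with hN
  let f : N →* pPrimeCore 2 (G ⧸ Z) :=
    ((QuotientGroup.mk' Z).comp N.subtype).codRestrict _ fun x => x.2
  have hf : Function.Surjective f := by
    rintro ⟨y, hy⟩
    obtain ⟨x, rfl⟩ := QuotientGroup.mk'_surjective Z y
    exact ⟨⟨x, hy⟩, rfl⟩
  have h1 : HasNormalPComplement 2 N := by
    refine PCompl.hnpc_of_ker_le_center f (fun x hx => ?_)
      (PCompl.hnpc_of_coprime (pPrimeCore_coprime 2))
    have h2 : (x : G) ∈ Z := (QuotientGroup.eq_one_iff _).1 (congrArg Subtype.val hx)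
    exact mem_center_iff.2 fun y => Subtype.ext (mem_center_iff.1 (hZ h2) y)
  have h2 : pPrimeCore 2 N = ⊥ := by
    have := map_pPrimeCore_le_of_isSubnormal 2 (H := N) (Normal.isSubnormal inferInstance)
    rw [hO, le_bot_iff, map_eq_bot_iff_of_injective _ N.subtype_injective] at this
    exact this
  have h3 := (PCompl.isPGroup_of_hnpc_of_pPrimeCore_eq_bot h1 h2).of_surjective f hf
  obtain ⟨k, hk⟩ := IsPGroup.iff_card.1 h3
  have h4 := pPrimeCore_coprime (G := G ⧸ Z) 2
  rw [hk] at h4
  rw [← card_eq_one, hk]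
  cases k with
  | zero => rfl
  | succ k => exact absurd ((Nat.coprime_pow_left_iff (Nat.succ_pos k) _ _).1 h4) (by norm_num)

theorem quat_case (hC : Conj G) (hO : pPrimeCore 2 G = ⊥) (S : Sylow 2 G)
    (e : (S : Subgroup G) ≃* QuaternionGroup 2) :
    Nonempty (G ≃* SL(2, ZMod 3)) ∨ Nonempty (G ≃* SL(2, ZMod 5)) := by
  have hT : ∀ P : Subgroup G, IsPGroup 2 P → ∃ f : P →* QuaternionGroup 2, Function.Injective f :=
    fun P hP => by
      obtain ⟨T, hT⟩ := hP.exists_le_sylow
      exact ⟨(((Sylow.equiv T S).trans e).toMonoidHom).comp (inclusion hT),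
        ((Sylow.equiv T S).trans e).injective.comp (inclusion_injective hT)⟩
  have hzp : ∀ (x : G) (k : ℕ), x ^ 2 ^ k = 1 → IsPGroup 2 (zpowers x) := fun x k hx => by
    obtain ⟨j, -, hj⟩ := (Nat.dvd_prime_pow Nat.prime_two).1 (orderOf_dvd_of_pow_eq_one hx)
    exact IsPGroup.of_card (by rw [Nat.card_zpowers, hj])
  let z : G := e.symm (QuaternionGroup.a 2)
  have hz1 : z ≠ 1 := fun h => by
    have : e.symm (QuaternionGroup.a 2) = 1 := Subtype.ext h
    rw [EmbeddingLike.map_eq_one_iff] at this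
    revert this
    decide
  have hzz : z * z = 1 := by
    change ((e.symm (QuaternionGroup.a 2) * e.symm (QuaternionGroup.a 2) : (S : Subgroup G)) : G) = 1
    rw [← map_mul, show (QuaternionGroup.a 2 * QuaternionGroup.a 2 : QuaternionGroup 2) = 1 by decide,
      map_one, coe_one]
  have hu : Blk.UniqInv z := by
    refine ⟨orderOf_eq_prime (by rw [pow_two, hzz]) hz1, fun s hs hc => ?_⟩
    have hP : IsPGroup 2 (zpowers s ⊔ zpowers z : Subgroup G) := by
      refine IsPGroup.to_sup_of_normal_right' (hzp s 1 hs) (hzp z 1 (by rw [pow_one, pow_two, hzz])) ?_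
      refine le_trans ?_ (centralizer_le_normalizer _)
      rw [zpowers_le, mem_centralizer_iff]
      rintro _ ⟨k, rfl⟩
      exact ((show Commute z s from hc.symm).zpow_left k).eq
    obtain ⟨f, hf⟩ := hT _ hP
    have key : ∀ a b : QuaternionGroup 2, a * a = 1 → b * b = 1 → b ≠ 1 → a = 1 ∨ a = b := by decide
    let s' : (zpowers s ⊔ zpowers z : Subgroup G) := ⟨s, mem_sup_left (mem_zpowers s)⟩
    let z' : (zpowers s ⊔ zpowers z : Subgroup G) := ⟨z, mem_sup_right (mem_zpowers z)⟩
    rcases key (f s') (f z') (by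
      rw [← map_mul, ← map_one f]; congr 1; exact Subtype.ext ((pow_two s).symm.trans hs))
      (by rw [← map_mul, ← map_one f]; congr 1; exact Subtype.ext hzz)
      (fun h => hz1 (congrArg Subtype.val (hf (h.trans (map_one f).symm)))) with h | h
    · exact Or.inl (congrArg Subtype.val (hf (h.trans (map_one f).symm)))
    · exact Or.inr (congrArg Subtype.val (hf h))
  have hcen : ∀ g : G, g * z = z * g := fun g => by
    have := Blk.brauer_suzuki G z hu g
    rw [hO, mem_bot, mul_inv_eq_one, mul_inv_eq_iff_eq_mul] at this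
    exact this
  have hZ : zpowers z ≤ center G := zpowers_le.2 (mem_center_iff.2 hcen)
  have hN : (zpowers z).Normal := ⟨fun n hn g => by
    rw [mem_center_iff.1 (hZ hn) g, mul_inv_cancel_right]; exact hn⟩
  have hc := cover_mk hz1 hzz fun g hg => hu.2 g (by rw [pow_two, hg]) (hcen g)
  have h2 : E2 (G ⧸ zpowers z) := fun x k hx => by
    obtain ⟨x, rfl⟩ := hc.surj x
    rw [← map_pow] at hx
    have h1 : x ^ 2 ^ (k + 1) = 1 := by rw [pow_succ, pow_mul, pow_two, hc.sq' hx]
    obtain ⟨f, hf⟩ := hT _ (hzp x _ h1)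
    have key : ∀ a : QuaternionGroup 2, a * a * (a * a) = 1 := by decide
    have h3 : x * x * (x * x) = 1 := by
      have := key (f ⟨x, mem_zpowers x⟩)
      simp only [← map_mul] at this
      exact congrArg Subtype.val (hf (this.trans (map_one f).symm))
    rw [← map_mul]
    exact hc.uniq _ h3
  obtain ⟨T⟩ : Nonempty (Sylow 2 (G ⧸ zpowers z)) := inferInstance
  have hT4 : Nat.card (T : Subgroup (G ⧸ zpowers z)) = 2 ^ 2 := by
    have h1 : Nat.card (S : Subgroup G) = 2 ^ 3 := by
      rw [Nat.card_congr e.toEquiv, Nat.card_eq_fintype_card, QuaternionGroup.card]; rfl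
    rw [S.card_eq_multiplicity, hc.card, Nat.factorization_mul two_ne_zero Nat.card_pos.ne'] at h1
    have h3 := Nat.pow_right_injective le_rfl h1
    rw [T.card_eq_multiplicity]
    congr 1
    simp [Nat.prime_two.factorization] at h3
    omega
  rcases four_case (hC.of_surjective _ hc.surj) (pPrimeCore_quotient_central hO hZ) h2 T hT4 with
    ⟨⟨ε⟩⟩ | ⟨⟨ε⟩⟩
  · obtain ⟨π, hπ⟩ := cover_SL23
    exact Or.inl (nonempty_equiv_of_cover (hc.comp ε) hπ (alt_sq 4 (Or.inl rfl)))
  · obtain ⟨π, hπ⟩ := cover_SL25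
    exact Or.inr (nonempty_equiv_of_cover (hc.comp ε) hπ (alt_sq 5 (Or.inr rfl)))

theorem cyclic_case (hO : pPrimeCore 2 G = ⊥) (S : Sylow 2 G) (h : IsCyclic (S : Subgroup G)) :
    IsCyclic G ∧ IsPGroup 2 G := by
  have h1 := PCompl.isPGroup_of_hnpc_of_pPrimeCore_eq_bot (PCompl.hnpc_two_of_isCyclic S h) hO
  have h2 : (S : Subgroup G) = ⊤ := (S.is_maximal' (h1.to_subgroup ⊤) le_top).symm
  rw [h2] at h
  exact ⟨isCyclic_of_surjective topEquiv topEquiv.surjective, h1⟩

end CfsgLib.CG
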